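import Groth.Agent.Helper62.FlatNilCrit
import Mathlib.RingTheory.MvPolynomial.Basic
import Mathlib.RingTheory.TensorProduct.Free
import Mathlib.RingTheory.Localization.BaseChange
import Mathlib.RingTheory.Flat.Basic

/-! The kernel of `IC ⊗ M → C ⊗ M` is generated by that of `I ⊗ M → M`, up to powers of `f`. -/

set_option autoImplicit false

universe u

open TensorProduct

namespace Groth.Agent.FlatStage64

variable {R : Type u} [CommRing R] (I : Ideal R) (f : R) (M : Type u) [AddCommGroup M] [Module R M]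

/-- Tensoring injections of modules killed by `I` with `M` has `f`-torsion kernel. -/
def KillTorsion : Prop :=
  ∀ (N N' : Type u) [AddCommGroup N] [Module R N] [AddCommGroup N'] [Module R N'],
    Module.IsTorsionBySet R N I → Module.IsTorsionBySet R N' I →
    ∀ g : N →ₗ[R] N', Function.Injective g → ∀ z, g.rTensor M z = 0 → ∃ n : ℕ, f ^ n • z = 0

/-- Freeness or flatness of `M/IM` away from `f` gives the torsion statement. -/
theorem killTorsion_of_flat_away (Rf : Type u) [CommRing Rf] [Algebra R Rf] [IsLocalization.Away f Rf]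
    (h : Module.Flat (R ⧸ I) ((R ⧸ I) ⊗[R] (Rf ⊗[R] M))) : KillTorsion I f M := by
  intro N N' _ _ _ _ hN hN' g hg z hz
  have hinj := FlatNilCrit62.rTensor_injective_of_killed (J := I) (M := Rf ⊗[R] M) hN hN' g hg
  let ν : N ⊗[R] M →ₗ[R] N ⊗[R] (Rf ⊗[R] M) := (TensorProduct.mk R Rf M 1).lTensor N
  have h0 : ν z = 0 := by
    apply hinj
    rw [map_zero, show g.rTensor (Rf ⊗[R] M) (ν z) =
        (TensorProduct.mk R Rf M 1).lTensor N' (g.rTensor M z) by
      rw [← LinearMap.comp_apply, ← LinearMap.comp_apply, LinearMap.rTensor_comp_lTensor,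
        LinearMap.lTensor_comp_rTensor], hz, map_zero]
  let e : N ⊗[R] (Rf ⊗[R] M) ≃ₗ[R] Rf ⊗[R] (N ⊗[R] M) := TensorProduct.leftComm R N Rf M
  have he : ∀ w, e (ν w) = TensorProduct.mk R Rf (N ⊗[R] M) 1 w := by
    intro w
    induction w using TensorProduct.induction_on with
    | zero => simp
    | add a b ha hb => simp only [map_add, ha, hb]
    | tmul a b => simp [e, ν]
  have h1 : TensorProduct.mk R Rf (N ⊗[R] M) 1 z = 0 := by rw [← he, h0, map_zero]
  obtain ⟨⟨s, n, rfl⟩, hs⟩ := (IsLocalizedModule.eq_zero_iff (Submonoid.powers f)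
    (TensorProduct.mk R Rf (N ⊗[R] M) 1)).mp h1
  exact ⟨n, hs⟩

variable (C : Type u) [CommRing C] [Algebra R C]

/-- The extended ideal as an `R`-module. -/
abbrev extIdeal : Submodule R C := (I.map (algebraMap R C)).restrictScalars R

/-- The map `I → IC`. -/
def toExt : ↥I →ₗ[R] ↥(extIdeal I C) :=
  (Algebra.linearMap R C).restrict fun _ h => Ideal.mem_map_of_mem _ h

theorem mem_extIdeal_iff_exists (P : Type u) [CommRing P] [Algebra R P] (z : P) (hz : z ∈ extIdeal I P) :
    ∃ w : P ⊗[R] ↥I, (TensorProduct.rid R P) (I.subtype.lTensor P w) = z := by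
  refine Submodule.span_induction (p := fun z _ => ∃ w : P ⊗[R] ↥I, (TensorProduct.rid R P) (I.subtype.lTensor P w) = z)
    ?_ ⟨0, by simp⟩ ?_ ?_ (show z ∈ Submodule.span P (algebraMap R P '' (I : Set R)) from hz)
  · rintro _ ⟨r, hr, rfl⟩
    exact ⟨1 ⊗ₜ ⟨r, hr⟩, by simp [Algebra.algebraMap_eq_smul_one]⟩
  · rintro x y _ _ ⟨a, rfl⟩ ⟨b, rfl⟩
    exact ⟨a + b, by simp⟩
  · rintro p x - ⟨a, rfl⟩
    refine ⟨(LinearMap.mulLeft R p).rTensor ↥I a, ?_⟩
    induction a using TensorProduct.induction_on with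
    | zero => simp
    | add a b ha hb => simp only [map_add, ha, hb, smul_add]
    | tmul q r => simp [mul_smul_comm]

theorem exists_pow_smul_eq_zero (hM : KillTorsion I f M)
    (hK : ∀ k : ↥I ⊗[R] M, I.subtype.rTensor M k = 0 → (toExt I C).rTensor M k = 0)
    (z : ↥(extIdeal I C) ⊗[R] M) (hz : (extIdeal I C).subtype.rTensor M z = 0) :
    ∃ n : ℕ, f ^ n • z = 0 := by
  let P := MvPolynomial C R
  let π : P →ₐ[R] C := MvPolynomial.aeval id
  have hπ : Function.Surjective π := fun c => ⟨MvPolynomial.X c, MvPolynomial.aeval_X _ _⟩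
  let Q : Submodule R P := LinearMap.ker π.toLinearMap
  let IP := extIdeal I P
  let πI : ↥IP →ₗ[R] ↥(extIdeal I C) := π.toLinearMap.restrict fun x hx => by
    have := Ideal.mem_map_of_mem (π : P →+* C) (show x ∈ I.map (algebraMap R P) from hx)
    rw [Ideal.map_map, AlgHom.comp_algebraMap] at this
    exact this
  have hπI : Function.Surjective πI := by
    intro ⟨c, hc⟩
    have : c ∈ (I.map (algebraMap R P)).map (π : P →+* C) := by
      rw [Ideal.map_map, AlgHom.comp_algebraMap]; exact hc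
    obtain ⟨x, hx, hxc⟩ := (Ideal.mem_map_iff_of_surjective (π : P →+* C) hπ).mp this
    exact ⟨⟨x, hx⟩, Subtype.ext hxc⟩
  obtain ⟨z₁, rfl⟩ := LinearMap.rTensor_surjective M hπI z
  have hy : π.toLinearMap.rTensor M (IP.subtype.rTensor M z₁) = 0 := by
    rw [← hz, ← LinearMap.rTensor_comp_apply, ← LinearMap.rTensor_comp_apply]
    rfl
  obtain ⟨w, hw⟩ := ((rTensor_exact (R := R) (M := ↥Q) (N := P) (P := C) (f := Q.subtype)
    (g := π.toLinearMap) M (LinearMap.exact_subtype_ker_map _) hπ) _).mp hy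
  let S : Submodule R ↥Q := IP.comap Q.subtype
  let g : (↥Q ⧸ S) →ₗ[R] P ⧸ IP := Submodule.mapQ _ _ Q.subtype le_rfl
  have hgi : Function.Injective g := by
    rw [← LinearMap.ker_eq_bot, eq_bot_iff]
    intro q hq
    obtain ⟨r, rfl⟩ := S.mkQ_surjective q
    rw [Submodule.mem_bot, Submodule.mkQ_apply, Submodule.Quotient.mk_eq_zero]
    exact (Submodule.Quotient.mk_eq_zero IP).mp hq
  have hsm : ∀ (r : R), r ∈ I → ∀ x : P, r • x ∈ IP := fun r hr x => by
    show r • x ∈ I.map (algebraMap R P)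
    rw [Algebra.smul_def]
    exact Ideal.mul_mem_right _ _ (Ideal.mem_map_of_mem _ hr)
  have hk1 : Module.IsTorsionBySet R (P ⧸ IP) I :=
    (Module.isTorsionBySet_quotient_iff _ _).mpr fun x r hr => hsm r hr x
  have hk2 : Module.IsTorsionBySet R (↥Q ⧸ S) I :=
    (Module.isTorsionBySet_quotient_iff _ _).mpr fun x r hr => hsm r hr x
  obtain ⟨n, hn⟩ := hM _ _ hk2 hk1 g hgi (S.mkQ.rTensor M w) (by
    rw [← LinearMap.rTensor_comp_apply, show g ∘ₗ S.mkQ = IP.mkQ ∘ₗ Q.subtype from rfl,
      LinearMap.rTensor_comp_apply, hw, ← LinearMap.rTensor_comp_apply,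
      show IP.mkQ ∘ₗ IP.subtype = 0 from LinearMap.ext fun x => (Submodule.Quotient.mk_eq_zero IP).mpr x.2,
      LinearMap.rTensor_zero, LinearMap.zero_apply])
  refine ⟨n, ?_⟩
  rw [← map_smul] at hn
  obtain ⟨w₂, hw₂⟩ := ((rTensor_exact (R := R) (M := ↥S) (N := ↥Q) (P := ↥Q ⧸ S) (f := S.subtype) (g := S.mkQ) M (LinearMap.exact_subtype_mkQ S) S.mkQ_surjective) _).mp hn
  let j : ↥S →ₗ[R] ↥IP := (Q.subtype ∘ₗ S.subtype).codRestrict IP fun x => x.2
  set z₂ := f ^ n • z₁ - j.rTensor M w₂ with hz₂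
  have hz₂0 : IP.subtype.rTensor M z₂ = 0 := by
    rw [hz₂, map_sub, map_smul, ← LinearMap.rTensor_comp_apply,
      show IP.subtype ∘ₗ j = Q.subtype ∘ₗ S.subtype from rfl, LinearMap.rTensor_comp_apply, hw₂,
      map_smul, hw, sub_self]
  have hz₂z : πI.rTensor M z₂ = f ^ n • πI.rTensor M z₁ := by
    rw [hz₂, map_sub, map_smul]
    refine sub_eq_self.mpr ?_
    rw [← LinearMap.rTensor_comp_apply,
      show πI ∘ₗ j = 0 from LinearMap.ext fun x => Subtype.ext (LinearMap.mem_ker.mp (x : ↥Q).2),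
      LinearMap.rTensor_zero, LinearMap.zero_apply]
  rw [← hz₂z]
  -- `IP` is a quotient of `P ⊗ I`, and `P` is flat
  let m₀ : P ⊗[R] ↥I →ₗ[R] P := (TensorProduct.rid R P).toLinearMap ∘ₗ I.subtype.lTensor P
  have hm₀ : ∀ v, m₀ v ∈ IP := by
    intro v
    induction v using TensorProduct.induction_on with
    | zero => simp
    | add a b ha hb => rw [map_add]; exact add_mem ha hb
    | tmul p r => exact hsm r r.2 p
  let m : P ⊗[R] ↥I →ₗ[R] ↥IP := m₀.codRestrict IP hm₀
  have hms : Function.Surjective m := by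
    rintro ⟨x, hx⟩
    obtain ⟨v, hv⟩ := mem_extIdeal_iff_exists I P x hx
    exact ⟨v, Subtype.ext hv⟩
  obtain ⟨v, hv⟩ := LinearMap.rTensor_surjective M hms z₂
  let v' : P ⊗[R] (↥I ⊗[R] M) := TensorProduct.assoc R P ↥I M v
  have key1 : ∀ v : (P ⊗[R] ↥I) ⊗[R] M, IP.subtype.rTensor M (m.rTensor M v) =
      (TensorProduct.rid R P).toLinearMap.rTensor M
        ((TensorProduct.assoc R P R M).symm ((I.subtype.rTensor M).lTensor P (TensorProduct.assoc R P ↥I M v))) := by
    intro v
    induction v using TensorProduct.induction_on with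
    | zero => simp
    | add a b ha hb => simp only [map_add, ha, hb]
    | tmul w x =>
      induction w using TensorProduct.induction_on with
      | zero => simp
      | add a b ha hb => simp only [add_tmul, map_add, ha, hb]
      | tmul p r => simp [m, m₀]
  have hv0 : (I.subtype.rTensor M).lTensor P v' = 0 := by
    apply (TensorProduct.assoc R P R M).symm.injective
    apply ((TensorProduct.rid R P).rTensor M).injective
    rw [map_zero, map_zero]
    show (TensorProduct.rid R P).toLinearMap.rTensor M _ = 0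
    rw [← key1, hv, hz₂0]
  obtain ⟨u, hu⟩ := ((Module.Flat.lTensor_exact (R := R) (M := P) (N := ↥(LinearMap.ker (I.subtype.rTensor M))) (N' := ↥I ⊗[R] M) (N'' := R ⊗[R] M) (f := (LinearMap.ker (I.subtype.rTensor M)).subtype) (g := I.subtype.rTensor M) (LinearMap.exact_subtype_ker_map (I.subtype.rTensor M))) v').mp hv0
  let act : P ⊗[R] (↥I ⊗[R] M) →ₗ[R] ↥(extIdeal I C) ⊗[R] M :=
    (πI ∘ₗ m).rTensor M ∘ₗ (TensorProduct.assoc R P ↥I M).symm.toLinearMap
  have key2 : ∀ (p : P) (k : ↥I ⊗[R] M), act (p ⊗ₜ k) =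
      (((LinearMap.mul R C (π p)).restrict (p := extIdeal I C) (q := extIdeal I C)
        (fun x hx => Ideal.mul_mem_left (I.map (algebraMap R C)) (π p) hx)).rTensor M) ((toExt I C).rTensor M k) := by
    intro p k
    induction k using TensorProduct.induction_on with
    | zero => simp
    | add a b ha hb => simp only [tmul_add, map_add, ha, hb]
    | tmul r x =>
      simp only [act, LinearMap.comp_apply, LinearEquiv.coe_coe, TensorProduct.assoc_symm_tmul, LinearMap.rTensor_tmul]
      congr 1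
      apply Subtype.ext
      show π ((TensorProduct.rid R P) (I.subtype.lTensor P (p ⊗ₜ[R] r))) = π p * algebraMap R C (r : R)
      rw [LinearMap.lTensor_tmul, TensorProduct.rid_tmul, Submodule.subtype_apply, map_smul, Algebra.smul_def, mul_comm]
  have hzero : ∀ u : P ⊗[R] ↥(LinearMap.ker (I.subtype.rTensor M)),
      act ((LinearMap.ker (I.subtype.rTensor M)).subtype.lTensor P u) = 0 := by
    intro u
    induction u using TensorProduct.induction_on with
    | zero => simp
    | add a b ha hb => simp only [map_add, ha, hb, add_zero]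
    | tmul p k =>
      rw [LinearMap.lTensor_tmul, key2]
      refine (congrArg _ (show (toExt I C).rTensor M ((LinearMap.ker (I.subtype.rTensor M)).subtype k) = 0 from
        hK _ k.2)).trans (map_zero _)
  have : πI.rTensor M z₂ = act v' := by
    simp only [act, v', LinearMap.comp_apply, LinearEquiv.coe_coe, LinearEquiv.symm_apply_apply]
    rw [LinearMap.rTensor_comp_apply, hv]
  rw [this, ← hu, hzero]

end Groth.Agent.FlatStage64
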