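import Mathlib.RingTheory.TensorProduct.Maps
import Mathlib.RingTheory.TensorProduct.Finite
import Mathlib.RingTheory.Flat.Localization

/-! The module `C ⊗ M` over `C ⊗ B`, and torsion kernels after localisation. -/

set_option autoImplicit false

universe u

open TensorProduct

namespace Groth.Agent.FlatStage64

variable (R C B M : Type u) [CommRing R] [CommRing C] [Algebra R C] [CommRing B] [Algebra R B]
  [AddCommGroup M] [Module R M] [Module B M] [IsScalarTower R B M]

/-- The structure map. -/
noncomputable def actHom : C ⊗[R] B →ₐ[C] Module.End C (C ⊗[R] M) :=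
  Algebra.TensorProduct.lift (Algebra.ofId C _)
    ((Module.End.baseChangeHom R C M).comp (Algebra.lsmul R R M : B →ₐ[R] Module.End R M))
    fun a b => Algebra.commutes a _

/-- `C ⊗ M` as a module over `C ⊗ B`. -/
noncomputable abbrev tensorModule : Module (C ⊗[R] B) (C ⊗[R] M) :=
  Module.compHom _ (actHom R C B M).toRingHom

theorem tmul_smul_tmul (a : C) (b : B) (a₁ : C) (n : M) :
    letI := tensorModule R C B M
    (a ⊗ₜ[R] b : C ⊗[R] B) • (a₁ ⊗ₜ[R] n : C ⊗[R] M) = (a * a₁) ⊗ₜ[R] (b • n) := by
  letI := tensorModule R C B M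
  change actHom R C B M (a ⊗ₜ b) (a₁ ⊗ₜ n) = _
  refine (DFunLike.congr_fun (Algebra.TensorProduct.lift_tmul (Algebra.ofId C _)
    ((Module.End.baseChangeHom R C M).comp (Algebra.lsmul R R M : B →ₐ[R] Module.End R M))
    (fun a b => Algebra.commutes a _) a b) (a₁ ⊗ₜ n)).trans ?_
  change a • LinearMap.baseChange C (Algebra.lsmul R R M b) (a₁ ⊗ₜ n) = _
  rw [LinearMap.baseChange_tmul, Algebra.lsmul_coe, TensorProduct.smul_tmul', smul_eq_mul]

theorem isScalarTower_tensorModule :
    letI := tensorModule R C B M
    IsScalarTower C (C ⊗[R] B) (C ⊗[R] M) := by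
  letI := tensorModule R C B M
  exact IsScalarTower.of_algebraMap_smul fun a z => by
    change actHom R C B M (algebraMap C (C ⊗[R] B) a) z = a • z
    rw [AlgHom.commutes, Module.algebraMap_end_apply]

theorem finite_tensorModule [Module.Finite B M] :
    letI := tensorModule R C B M
    Module.Finite (C ⊗[R] B) (C ⊗[R] M) := by
  classical
  letI := tensorModule R C B M
  obtain ⟨S, hS⟩ := Module.Finite.fg_top (R := B) (M := M)
  refine ⟨⟨S.image fun n => (1 : C) ⊗ₜ[R] n, Submodule.eq_top_iff'.mpr fun z => ?_⟩⟩
  induction z using TensorProduct.induction_on with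
  | zero => exact zero_mem _
  | add a b ha hb => exact add_mem ha hb
  | tmul a n =>
    have hn : n ∈ Submodule.span B (S : Set M) := hS ▸ Submodule.mem_top
    induction hn using Submodule.span_induction with
    | zero => rw [TensorProduct.tmul_zero]; exact zero_mem _
    | add n m _ _ hn hm => rw [TensorProduct.tmul_add]; exact add_mem hn hm
    | mem n hn =>
      have := Submodule.smul_mem (Submodule.span (C ⊗[R] B) (↑(S.image fun n => (1 : C) ⊗ₜ[R] n) : Set (C ⊗[R] M)))
        (a ⊗ₜ[R] (1 : B) : C ⊗[R] B) (Submodule.subset_span (by simpa using ⟨n, hn, rfl⟩))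
      rwa [tmul_smul_tmul, mul_one, one_smul] at this
    | smul b n _ hn =>
      have := Submodule.smul_mem (Submodule.span (C ⊗[R] B) (↑(S.image fun n => (1 : C) ⊗ₜ[R] n) : Set (C ⊗[R] M)))
        ((1 : C) ⊗ₜ[R] b : C ⊗[R] B) hn
      rwa [tmul_smul_tmul, one_mul] at this

/-- If the kernel of `g ⊗ N` is `f`-torsion and `f` is invertible on the localisation of `N`, then
`g` stays injective after tensoring with it. -/
theorem injective_rTensor_localized {A S : Type u} [CommRing A] [CommRing S] [Algebra A S] (T : Submonoid S)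
    (f : A) (hf : algebraMap A S f ∈ T) (N : Type u) [AddCommGroup N] [Module A N] [Module S N]
    [IsScalarTower A S N] {X Y : Type u} [AddCommGroup X] [Module A X] [AddCommGroup Y] [Module A Y]
    (g : X →ₗ[A] Y) (h : ∀ z : X ⊗[A] N, g.rTensor N z = 0 → ∃ n : ℕ, f ^ n • z = 0) :
    Function.Injective (g.rTensor (LocalizedModule T N)) := by
  let ν := LocalizedModule.mkLinearMap T N
  let νX := TensorProduct.AlgebraTensorModule.rTensor A X ν
  let νY := TensorProduct.AlgebraTensorModule.rTensor A Y ν
  let gN : N ⊗[A] X →ₗ[S] N ⊗[A] Y := TensorProduct.AlgebraTensorModule.lTensor S N g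
  let gT : LocalizedModule T N ⊗[A] X →ₗ[S] LocalizedModule T N ⊗[A] Y :=
    TensorProduct.AlgebraTensorModule.lTensor S (LocalizedModule T N) g
  have hgT : Function.Injective gT := by
    rw [injective_iff_map_eq_zero]
    intro z hz
    obtain ⟨⟨w, s⟩, rfl⟩ := IsLocalizedModule.mk'_surjective T νX z
    simp only [Function.uncurry_apply_pair] at hz ⊢
    have hnat : ∀ w, gT (νX w) = νY (gN w) := by
      intro w
      induction w using TensorProduct.induction_on with
      | zero => simp
      | add a b ha hb => simp only [map_add, ha, hb]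
      | tmul a b => simp [gT, gN, νX, νY]
    have h1 : νY (gN w) = 0 := by
      rw [← hnat, ← IsLocalizedModule.mk'_cancel' νX w s, Submonoid.smul_def, map_smul, hz, smul_zero]
    obtain ⟨t, ht⟩ := (IsLocalizedModule.eq_zero_iff T νY).mp h1
    rw [Submonoid.smul_def, ← map_smul] at ht
    have h2 : g.rTensor N (TensorProduct.comm A N X (t.1 • w)) = 0 := by
      have := congrArg (TensorProduct.comm A N Y) ht
      rw [map_zero] at this
      rw [← this]
      generalize t.1 • w = w'
      induction w' using TensorProduct.induction_on with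
      | zero => simp
      | add a b ha hb => simp only [map_add, ha, hb]
      | tmul a b => simp [gN]
    obtain ⟨n, hn⟩ := h _ h2
    rw [← map_smul, LinearEquiv.map_eq_zero_iff, ← algebraMap_smul S (f ^ n), smul_smul] at hn
    rw [IsLocalizedModule.mk'_eq_zero']
    exact ⟨⟨algebraMap A S (f ^ n) * t.1, T.mul_mem (by rw [map_pow]; exact T.pow_mem hf n) t.2⟩, hn⟩
  intro a b hab
  apply (TensorProduct.comm A X (LocalizedModule T N)).injective
  apply hgT
  have key : ∀ a, gT (TensorProduct.comm A X (LocalizedModule T N) a) =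
      TensorProduct.comm A Y (LocalizedModule T N) (g.rTensor (LocalizedModule T N) a) := by
    intro a
    induction a using TensorProduct.induction_on with
    | zero => simp
    | add a b ha hb => simp only [map_add, ha, hb]
    | tmul a b => simp [gT]
  rw [key, key, hab]

end Groth.Agent.FlatStage64
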