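import Groth.Agent.FlatStage64.Criterion
import Groth.Agent.FlatStage64.Kernel
import Groth.Agent.FlatStage64.TensorModule
import Groth.Agent.GenFree62.Generic
import Mathlib.RingTheory.TensorProduct.DirectLimitFG
import Mathlib.RingTheory.FiniteType
import Mathlib.RingTheory.FiniteStability
import Mathlib.RingTheory.Localization.Submodule

/-! Flatness descends to a finitely generated stage. -/

set_option autoImplicit false
set_option linter.style.haveILetI false

universe u

open TensorProduct

namespace Groth.Agent.FlatStage64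

variable {R : Type u} [CommRing R] (B : Type u) [CommRing B] [Algebra R B] [Algebra.FiniteType R B]
  {M : Type u} [AddCommGroup M] [Module R M] [Module B M] [IsScalarTower R B M] [Module.Finite B M]

variable (M) in
include B in
/-- A finite cover of `Spec R` by strata on which `M` is flat. -/
theorem exists_strata [IsNoetherianRing R] (J : Ideal R) :
    ∃ s : Finset (Ideal R × R), (∀ x ∈ s, KillTorsion x.1 x.2 M) ∧
      ∀ p : Ideal R, p.IsPrime → J ≤ p → ∃ x ∈ s, x.1 ≤ p ∧ x.2 ∉ p := by
  classical
  induction J using WellFoundedGT.induction with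
  | _ J ih =>
  by_cases hJ : J.IsPrime
  · haveI := hJ
    haveI : IsDomain (R ⧸ J) := Ideal.Quotient.isDomain J
    haveI : IsNoetherianRing (R ⧸ J) := isNoetherianRing_of_surjective R _ (Ideal.Quotient.mk J) Ideal.Quotient.mk_surjective
    letI := tensorModule R (R ⧸ J) B M
    haveI := isScalarTower_tensorModule R (R ⧸ J) B M
    haveI := finite_tensorModule R (R ⧸ J) B M
    obtain ⟨f', hf', hfree⟩ := GenFree62.exists_freeAway (A := R ⧸ J) (B := (R ⧸ J) ⊗[R] B)
      (M := (R ⧸ J) ⊗[R] M)
    obtain ⟨f, rfl⟩ := Ideal.Quotient.mk_surjective f'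
    have hfJ : f ∉ J := fun h => hf' (Ideal.Quotient.eq_zero_iff_mem.mpr h)
    have hlt : J < J ⊔ Ideal.span {f} :=
      lt_of_le_of_ne le_sup_left fun e => hfJ (e ▸ Ideal.mem_sup_right (Ideal.mem_span_singleton_self f))
    obtain ⟨s, hs1, hs2⟩ := ih _ hlt
    refine ⟨insert (J, f) s, ?_, fun p hp hJp => ?_⟩
    · intro x hx
      rcases Finset.mem_insert.mp hx with rfl | hx
      · refine killTorsion_of_flat_away J f M (Localization.Away f) ?_
        let A' := (R ⧸ J) ⊗[R] Localization.Away f
        have hu : IsUnit (algebraMap (R ⧸ J) A' (Ideal.Quotient.mk J f)) := by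
          have h2 := (IsLocalization.Away.algebraMap_isUnit (S := Localization.Away f) f).map
            (Algebra.TensorProduct.includeRight : Localization.Away f →ₐ[R] A')
          rw [AlgHom.commutes] at h2
          rwa [IsScalarTower.algebraMap_apply R (R ⧸ J) A'] at h2
        haveI : Module.Free A' (A' ⊗[R ⧸ J] ((R ⧸ J) ⊗[R] M)) := hfree A' hu
        haveI : Module.Flat R (Localization.Away f) := IsLocalization.flat _ (Submonoid.powers f)
        haveI : Module.Flat (R ⧸ J) (A' ⊗[R ⧸ J] ((R ⧸ J) ⊗[R] M)) := Module.Flat.trans (R ⧸ J) A' _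
        refine Module.Flat.of_linearEquiv (R := R ⧸ J) (M := A' ⊗[R ⧸ J] ((R ⧸ J) ⊗[R] M)) ?_
        exact (TensorProduct.AlgebraTensorModule.assoc R R (R ⧸ J) (R ⧸ J) (Localization.Away f) M).symm ≪≫ₗ
          (TensorProduct.AlgebraTensorModule.cancelBaseChange R (R ⧸ J) (R ⧸ J) A' M).symm
      · exact hs1 x hx
    · by_cases hf : f ∈ p
      · obtain ⟨x, hx, h⟩ := hs2 p hp (sup_le hJp ((Ideal.span_singleton_le_iff_mem p).mpr hf))
        exact ⟨x, Finset.mem_insert_of_mem hx, h⟩
      · exact ⟨(J, f), Finset.mem_insert_self _ _, hJp, hf⟩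
  · by_cases htop : J = ⊤
    · exact ⟨∅, by simp, fun p hp hle => absurd (top_le_iff.mp (htop ▸ hle)) hp.ne_top⟩
    obtain ⟨a, ha, b, hb, hab⟩ : ∃ a ∉ J, ∃ b ∉ J, a * b ∈ J := by
      simp only [Ideal.isPrime_iff, not_and, not_forall] at hJ
      obtain ⟨a, b, hab, h⟩ := hJ htop
      push Not at h
      exact ⟨a, h.1, b, h.2, hab⟩
    have hlt : ∀ c ∉ J, J < J ⊔ Ideal.span {c} := fun c hc =>
      lt_of_le_of_ne le_sup_left fun e => hc (e ▸ Ideal.mem_sup_right (Ideal.mem_span_singleton_self c))
    obtain ⟨s, hs1, hs2⟩ := ih _ (hlt a ha)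
    obtain ⟨t, ht1, ht2⟩ := ih _ (hlt b hb)
    refine ⟨s ∪ t, fun x hx => (Finset.mem_union.mp hx).elim (hs1 x) (ht1 x), fun p hp hJp => ?_⟩
    rcases hp.mem_or_mem (hJp hab) with h | h
    · obtain ⟨x, hx, h'⟩ := hs2 p hp (sup_le hJp ((Ideal.span_singleton_le_iff_mem p).mpr h))
      exact ⟨x, Finset.mem_union_left _ hx, h'⟩
    · obtain ⟨x, hx, h'⟩ := ht2 p hp (sup_le hJp ((Ideal.span_singleton_le_iff_mem p).mpr h))
      exact ⟨x, Finset.mem_union_right _ hx, h'⟩

/-- The condition on an algebra ensuring flatness. -/
def Kills (s : Finset (Ideal R × R)) (C : Type u) [CommRing C] [Algebra R C] (M : Type u)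
    [AddCommGroup M] [Module R M] : Prop :=
  ∀ x ∈ s, ∀ k : ↥(x.1) ⊗[R] M, x.1.subtype.rTensor M k = 0 → (toExt x.1 C).rTensor M k = 0

include B in
theorem flat_of_kills [IsNoetherianRing R] (C : Type u) [CommRing C] [Algebra R C] [Algebra.FiniteType R C]
    (s : Finset (Ideal R × R)) (hs : ∀ x ∈ s, KillTorsion x.1 x.2 M)
    (hcover : ∀ p : Ideal R, p.IsPrime → ∃ x ∈ s, x.1 ≤ p ∧ x.2 ∉ p)
    (hkills : Kills s C M) : Module.Flat C (C ⊗[R] M) := by
  classical
  letI := tensorModule R C B M
  haveI := isScalarTower_tensorModule R C B M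
  haveI := finite_tensorModule R C B M
  haveI : IsNoetherianRing C := Algebra.FiniteType.isNoetherianRing R C
  haveI : IsNoetherianRing (C ⊗[R] B) := Algebra.FiniteType.isNoetherianRing C (C ⊗[R] B)
  let S := C ⊗[R] B
  let N := C ⊗[R] M
  refine Module.flat_of_isLocalized_maximal S N (fun q _ => LocalizedModule q.primeCompl N)
    (fun q _ => LocalizedModule.mkLinearMap q.primeCompl N) fun q hq => ?_
  obtain ⟨⟨I, f⟩, hx, hle, hf⟩ := hcover ((q.comap (algebraMap C S)).comap (algebraMap R C)) inferInstance
  have hI := hs _ hx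
  have hK := hkills _ hx
  simp only at hI hK hle hf
  let fC : C := algebraMap R C f
  have hfT : algebraMap C S fC ∈ q.primeCompl := hf
  have hpow : ∀ (X : Type u) [AddCommGroup X] [Module C X] [Module R X] [IsScalarTower R C X] (n : ℕ) (z : X),
      fC ^ n • z = f ^ n • z := fun X _ _ _ _ n z => by rw [← map_pow, algebraMap_smul]
  haveI : Module.Finite (Localization.AtPrime q) (LocalizedModule q.primeCompl N) :=
    Module.Finite.of_isLocalizedModule q.primeCompl (LocalizedModule.mkLinearMap q.primeCompl N)
  show Module.Flat C (LocalizedModule q.primeCompl N)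
  refine flat_of_killExact (M := LocalizedModule q.primeCompl N) (J := I.map (algebraMap R C)) (B := Localization.AtPrime q) ?_ ?_ ?_
  · intro X Y _ _ _ _ hX hY g hg
    refine injective_rTensor_localized q.primeCompl fC hfT N g fun z hz => ?_
    letI : Module R X := Module.compHom X (algebraMap R C)
    letI : Module R Y := Module.compHom Y (algebraMap R C)
    haveI : IsScalarTower R C X := IsScalarTower.of_algebraMap_smul fun _ _ => rfl
    haveI : IsScalarTower R C Y := IsScalarTower.of_algebraMap_smul fun _ _ => rfl
    let eX := TensorProduct.AlgebraTensorModule.cancelBaseChange R C C X M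
    let eY := TensorProduct.AlgebraTensorModule.cancelBaseChange R C C Y M
    have hnat : ∀ z, (g.restrictScalars R).rTensor M (eX z) = eY (g.rTensor N z) := by
      intro z
      induction z using TensorProduct.induction_on with
      | zero => simp
      | add a b ha hb => simp only [map_add, ha, hb]
      | tmul x w =>
        induction w using TensorProduct.induction_on with
        | zero => simp
        | add a b ha hb => simp only [tmul_add, map_add, ha, hb]
        | tmul c m => simp [eX, eY, N]
    have hkX : Module.IsTorsionBySet R X (I : Set R) := fun x a => by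
      have := @hX x ⟨algebraMap R C a.1, Ideal.mem_map_of_mem _ a.2⟩
      exact this
    have hkY : Module.IsTorsionBySet R Y (I : Set R) := fun x a => by
      have := @hY x ⟨algebraMap R C a.1, Ideal.mem_map_of_mem _ a.2⟩
      exact this
    obtain ⟨n, hn⟩ := hI X Y hkX hkY (g.restrictScalars R) hg (eX z) (by rw [hnat, hz, map_zero])
    refine ⟨n, eX.injective ?_⟩
    rw [map_zero, map_smul, hpow, hn]
  · refine injective_rTensor_localized q.primeCompl fC hfT N (I.map (algebraMap R C)).subtype fun z hz => ?_
    let e := TensorProduct.AlgebraTensorModule.cancelBaseChange R C C ↥(I.map (algebraMap R C)) M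
    let eC := TensorProduct.AlgebraTensorModule.cancelBaseChange R C C C M
    have hnat : ∀ z, (extIdeal I C).subtype.rTensor M (e z) = eC ((I.map (algebraMap R C)).subtype.rTensor N z) := by
      intro z
      induction z using TensorProduct.induction_on with
      | zero => simp only [map_zero]; exact map_zero _
      | add a b ha hb => simp only [map_add, ha, hb]; exact map_add _ _ _ |>.trans (by rw [ha, hb])
      | tmul x w =>
        induction w using TensorProduct.induction_on with
        | zero => simp only [tmul_zero, map_zero]; exact map_zero _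
        | add a b ha hb => simp only [tmul_add, map_add] ; exact map_add _ _ _ |>.trans (by rw [ha, hb])
        | tmul c m => simp [e, eC, N]; rfl
    obtain ⟨n, hn⟩ := exists_pow_smul_eq_zero I f M C hI hK (e z) (by rw [hnat, hz, map_zero])
    refine ⟨n, e.injective ?_⟩
    rw [map_zero, map_smul]
    exact (show fC ^ n • e z = f ^ n • e z by rw [← map_pow]; exact algebraMap_smul C (f ^ n) (e z)).trans hn
  · rw [IsLocalRing.jacobson_eq_maximalIdeal ⊥ bot_ne_top, Ideal.map_map, Ideal.map_le_iff_le_comap]
    intro a ha
    rw [Ideal.mem_comap, RingHom.comp_apply, IsScalarTower.algebraMap_apply C S (Localization.AtPrime q)]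
    exact (IsLocalization.AtPrime.to_map_mem_maximal_iff (Localization.AtPrime q) q _).mpr (hle ha)

variable (A : Type u) [CommRing A] [Algebra R A]

theorem exists_subalgebra_mem_map (I : Ideal R) (x : A) (hx : x ∈ I.map (algebraMap R A)) :
    ∃ C : Subalgebra R A, C.FG ∧ ∃ y ∈ I.map (algebraMap R C), (y : A) = x := by
  refine Submodule.span_induction (p := fun x _ => ∃ C : Subalgebra R A, C.FG ∧ ∃ y ∈ I.map (algebraMap R C), (y : A) = x)
    ?_ ⟨⊥, Subalgebra.fg_bot, 0, Ideal.zero_mem _, rfl⟩ ?_ ?_ (show x ∈ Submodule.span A (algebraMap R A '' (I : Set R)) from hx)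
  · rintro _ ⟨r, hr, rfl⟩
    exact ⟨⊥, Subalgebra.fg_bot, algebraMap R _ r, Ideal.mem_map_of_mem _ hr, rfl⟩
  · rintro _ _ - - ⟨C, hC, y, hy, rfl⟩ ⟨D, hD, z, hz, rfl⟩
    refine ⟨C ⊔ D, hC.sup hD, Subalgebra.inclusion le_sup_left y + Subalgebra.inclusion le_sup_right z,
      Ideal.add_mem _ ?_ ?_, rfl⟩
    · have := Ideal.mem_map_of_mem (Subalgebra.inclusion (le_sup_left : C ≤ C ⊔ D)).toRingHom hy
      rwa [Ideal.map_map, AlgHom.toRingHom_eq_coe, AlgHom.comp_algebraMap] at this
    · have := Ideal.mem_map_of_mem (Subalgebra.inclusion (le_sup_right : D ≤ C ⊔ D)).toRingHom hz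
      rwa [Ideal.map_map, AlgHom.toRingHom_eq_coe, AlgHom.comp_algebraMap] at this
  · rintro a _ - ⟨C, hC, y, hy, rfl⟩
    refine ⟨C ⊔ Algebra.adjoin R {a}, hC.sup (Subalgebra.fg_adjoin_finset {a} |> fun h => by simpa using h),
      ⟨a, (le_sup_right : Algebra.adjoin R {a} ≤ C ⊔ Algebra.adjoin R {a}) (Algebra.self_mem_adjoin_singleton R a)⟩ *
        Subalgebra.inclusion le_sup_left y, Ideal.mul_mem_left _ _ ?_, rfl⟩
    have := Ideal.mem_map_of_mem (Subalgebra.inclusion (le_sup_left : C ≤ C ⊔ Algebra.adjoin R {a})).toRingHom hy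
    rwa [Ideal.map_map, AlgHom.toRingHom_eq_coe, AlgHom.comp_algebraMap] at this

include B in
theorem exists_kills [IsNoetherianRing R] (hA : Module.Flat A (A ⊗[R] M)) (s : Finset (Ideal R × R)) :
    ∃ C : Subalgebra R A, C.FG ∧ ∀ D : Subalgebra R A, C ≤ D → Kills s D M := by
  classical
  induction s using Finset.induction_on with
  | empty => exact ⟨⊥, Subalgebra.fg_bot, fun D _ x hx => by simp at hx⟩
  | insert x s _ ih =>
    obtain ⟨C, hC, hCs⟩ := ih
    obtain ⟨I, f⟩ := x
    let K : Submodule B (M ⊗[R] ↥I) := LinearMap.ker (TensorProduct.AlgebraTensorModule.lTensor B M I.subtype)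
    haveI : Module.Finite B (M ⊗[R] ↥I) := by
      haveI : Module.Finite R ↥I := Module.Finite.iff_fg.mpr (IsNoetherian.noetherian I)
      obtain ⟨S, hS⟩ := Module.Finite.fg_top (R := B) (M := M)
      obtain ⟨U, hU⟩ := Module.Finite.fg_top (R := R) (M := ↥I)
      refine ⟨⟨(S ×ˢ U).image fun q => q.1 ⊗ₜ[R] q.2, Submodule.eq_top_iff'.mpr fun z => ?_⟩⟩
      induction z using TensorProduct.induction_on with
      | zero => exact zero_mem _
      | add a b ha hb => exact add_mem ha hb
      | tmul a i =>
        have hi : i ∈ Submodule.span R (U : Set ↥I) := hU ▸ Submodule.mem_top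
        induction hi using Submodule.span_induction with
        | zero => rw [TensorProduct.tmul_zero]; exact zero_mem _
        | add x y _ _ hx hy => rw [TensorProduct.tmul_add]; exact add_mem hx hy
        | smul r x _ hx => rw [TensorProduct.tmul_smul, ← algebraMap_smul B r]; exact Submodule.smul_mem _ _ hx
        | mem x hx =>
          have ha : a ∈ Submodule.span B (S : Set M) := hS ▸ Submodule.mem_top
          induction ha using Submodule.span_induction with
          | zero => rw [TensorProduct.zero_tmul]; exact zero_mem _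
          | add v w _ _ hv hw => rw [TensorProduct.add_tmul]; exact add_mem hv hw
          | smul b v _ hv => rw [← TensorProduct.smul_tmul']; exact Submodule.smul_mem _ _ hv
          | mem v hv => exact Submodule.subset_span (Finset.mem_image.mpr ⟨(v, x), Finset.mk_mem_product hv hx, rfl⟩)
    haveI : IsNoetherianRing B := Algebra.FiniteType.isNoetherianRing R B
    haveI : IsNoetherian B (M ⊗[R] ↥I) := isNoetherian_of_isNoetherianRing_of_finite _ _
    obtain ⟨T, hT⟩ := IsNoetherian.noetherian K
    -- each generator dies at some stage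
    have hstage : ∀ k : ↥I ⊗[R] M, I.subtype.rTensor M k = 0 → ∃ D₀ : Subalgebra R A, D₀.FG ∧
        ∀ D : Subalgebra R A, D₀ ≤ D → (toExt I D).rTensor M k = 0 := by
      intro k hk
      have h0 : (toExt I A).rTensor M k = 0 := by
        let eI := TensorProduct.AlgebraTensorModule.cancelBaseChange R A A ↥(I.map (algebraMap R A)) M
        let eA := TensorProduct.AlgebraTensorModule.cancelBaseChange R A A A M
        have hinj : Function.Injective ((I.map (algebraMap R A)).subtype.rTensor (A ⊗[R] M)) :=
          Module.Flat.rTensor_preserves_injective_linearMap _ Subtype.val_injective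
        have hnat : ∀ z, (extIdeal I A).subtype.rTensor M (eI z) =
            eA ((I.map (algebraMap R A)).subtype.rTensor (A ⊗[R] M) z) := by
          intro z
          induction z using TensorProduct.induction_on with
          | zero => simp only [map_zero]; exact map_zero _
          | add a b ha hb => rw [map_add, map_add, map_add]; exact (map_add _ _ _).trans (by rw [ha, hb])
          | tmul x w =>
            induction w using TensorProduct.induction_on with
            | zero => simp only [tmul_zero, map_zero]; exact map_zero _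
            | add a b ha hb => rw [tmul_add, map_add, map_add, map_add]; exact (map_add _ _ _).trans (by rw [ha, hb])
            | tmul c m => simp [eI, eA]; rfl
        obtain ⟨z, hz⟩ := eI.surjective ((toExt I A).rTensor M k)
        have : z = 0 := by
          apply hinj
          apply eA.injective
          rw [map_zero, map_zero, ← hnat, hz, ← LinearMap.rTensor_comp_apply,
            show (extIdeal I A).subtype ∘ₗ toExt I A = Algebra.linearMap R A ∘ₗ I.subtype from rfl,
            LinearMap.rTensor_comp_apply, hk, map_zero]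
        rw [← hz, this]
        exact map_zero _
      haveI : Module.Finite R ↥I := Module.Finite.iff_fg.mpr (IsNoetherian.noetherian I)
      let P : Submodule R ↥(extIdeal I A) := LinearMap.range (toExt I A)
      have hP : P.FG := by
        rw [show P = Submodule.map (toExt I A) ⊤ from (Submodule.map_top _).symm]
        exact Module.Finite.fg_top.map _
      obtain ⟨Q, hPQ, hQ, hQ0⟩ := TensorProduct.eq_zero_of_fg_of_subtype_eq_zero hP
        (t := (toExt I A).rangeRestrict.rTensor M k) (by
          rw [← LinearMap.rTensor_comp_apply]; exact h0)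
      obtain ⟨G, hG⟩ := hQ
      choose Cg hCg y hy hyx using fun g : ↥(extIdeal I A) => exists_subalgebra_mem_map A I g.1 g.2
      refine ⟨G.sup Cg, Finset.sup_induction Subalgebra.fg_bot (fun _ h _ h' => h.sup h') fun g _ => hCg g,
        fun D hD => ?_⟩
      have hmem : ∀ q : Q, ∃ z : ↥(extIdeal I D), ((z : D) : A) = ((q : ↥(extIdeal I A)) : A) := by
        rintro ⟨q, hq⟩
        rw [← hG] at hq
        induction hq using Submodule.span_induction with
        | mem g hg =>
          have hle : Cg g ≤ D := (Finset.le_sup hg).trans hD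
          have := Ideal.mem_map_of_mem (Subalgebra.inclusion hle).toRingHom (hy g)
          rw [Ideal.map_map, AlgHom.toRingHom_eq_coe, AlgHom.comp_algebraMap] at this
          exact ⟨⟨_, this⟩, hyx g⟩
        | zero => exact ⟨0, rfl⟩
        | add a b ha' hb' ha hb =>
          obtain ⟨u, hu⟩ := ha (hG ▸ ha'); obtain ⟨v, hv⟩ := hb (hG ▸ hb')
          exact ⟨u + v, by simp [hu, hv]⟩
        | smul r a ha' ha =>
          obtain ⟨u, hu⟩ := ha (hG ▸ ha')
          exact ⟨r • u, by simp [hu]⟩
      choose j hj using hmem
      let jl : ↥Q →ₗ[R] ↥(extIdeal I D) :=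
        { toFun := j
          map_add' := fun a b => Subtype.ext (Subtype.ext (by simp [hj]))
          map_smul' := fun r a => Subtype.ext (Subtype.ext (by simp [hj])) }
      have : toExt I D = jl ∘ₗ Submodule.inclusion hPQ ∘ₗ (toExt I A).rangeRestrict :=
        LinearMap.ext fun i => Subtype.ext (Subtype.ext (Eq.trans rfl (hj (Submodule.inclusion hPQ ((toExt I A).rangeRestrict i))).symm))
      rw [this, LinearMap.rTensor_comp_apply, LinearMap.rTensor_comp_apply, hQ0, map_zero]
    choose! D₀ hD₀ hD₀' using hstage
    let σ := TensorProduct.comm R M ↥I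
    refine ⟨C ⊔ T.sup (fun t => if h : I.subtype.rTensor M (σ t) = 0 then D₀ (σ t) else ⊥), hC.sup
      (Finset.sup_induction Subalgebra.fg_bot (fun _ h _ h' => h.sup h') fun t _ => by
        split
        · exact hD₀ _ (by assumption)
        · exact Subalgebra.fg_bot), fun D hD => ?_⟩
    intro x hx
    rcases Finset.mem_insert.mp hx with rfl | hx
    · intro k hk
      simp only at k hk ⊢
      have hswap : ∀ w, I.subtype.rTensor M (σ w) = TensorProduct.comm R M R
          (TensorProduct.AlgebraTensorModule.lTensor B M I.subtype w) := by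
        intro w
        induction w using TensorProduct.induction_on with
        | zero => simp
        | add a b ha hb => simp only [map_add, ha, hb]
        | tmul a b => simp [σ]
      have hkK : σ.symm k ∈ K := by
        rw [LinearMap.mem_ker]
        apply (TensorProduct.comm R M R).injective
        rw [map_zero, ← hswap, LinearEquiv.apply_symm_apply, hk]
      let tD : M ⊗[R] ↥I →ₗ[B] M ⊗[R] ↥(extIdeal I D) :=
        TensorProduct.AlgebraTensorModule.lTensor B M (toExt I D)
      have hswap' : ∀ w, (toExt I D).rTensor M (σ w) = TensorProduct.comm R M _ (tD w) := by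
        intro w
        induction w using TensorProduct.induction_on with
        | zero => simp
        | add a b ha hb => simp only [map_add, ha, hb]
        | tmul a b => simp [σ, tD]
      have hkill : K ≤ LinearMap.ker tD := by
        rw [← hT, Submodule.span_le]
        intro t ht
        have ht0 : I.subtype.rTensor M (σ t) = 0 := by
          rw [hswap, LinearMap.mem_ker.mp (show t ∈ K from hT ▸ Submodule.subset_span ht), map_zero]
        have hle : D₀ (σ t) ≤ D := by
          refine le_trans ?_ (le_sup_right.trans hD)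
          have := Finset.le_sup (f := fun t => if h : I.subtype.rTensor M (σ t) = 0 then D₀ (σ t) else ⊥) ht
          simpa [ht0] using this
        have := hD₀' _ ht0 D hle
        rw [hswap'] at this
        exact (LinearEquiv.map_eq_zero_iff _).mp this
      have := hswap' (σ.symm k)
      rw [LinearEquiv.apply_symm_apply, LinearMap.mem_ker.mp (hkill hkK), map_zero] at this
      exact this
    · exact hCs D (le_sup_left.trans hD) x hx

include B in
/-- EGA IV 11.2.6 in module form: flatness over `A` comes from a finitely generated stage. -/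
theorem exists_fg_flat [IsNoetherianRing R] (hA : Module.Flat A (A ⊗[R] M)) :
    ∃ C : Subalgebra R A, C.FG ∧ ∀ D : Subalgebra R A, C ≤ D → Module.Flat D (D ⊗[R] M) := by
  obtain ⟨s, hs, hcover⟩ := exists_strata (B := B) M (⊥ : Ideal R)
  obtain ⟨C, hC, hkills⟩ := exists_kills (B := B) A hA s
  haveI : Algebra.FiniteType R C := (Subalgebra.fg_iff_finiteType C).mp hC
  haveI := flat_of_kills (B := B) C s hs (fun p hp => hcover p hp bot_le) (hkills C le_rfl)
  refine ⟨C, hC, fun D hD => ?_⟩
  letI : Algebra C D := (Subalgebra.inclusion hD).toRingHom.toAlgebra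
  haveI : IsScalarTower R C D := IsScalarTower.of_algebraMap_eq fun r => rfl
  exact Module.Flat.of_linearEquiv (R := D)
    (TensorProduct.AlgebraTensorModule.cancelBaseChange R C D D M).symm

end Groth.Agent.FlatStage64
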