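import Groth.Agent.FlatStage64.Main
import Groth.Agent.Cons62.Model
import Groth.Agent.WE24.TorDim
import Mathlib.RingTheory.Flat.Equalizer
import Mathlib.RingTheory.IsTensorProduct
import Mathlib.Algebra.Module.FinitePresentation
import Mathlib.RingTheory.TensorProduct.Pi

/-! Syzygies of a module flat over the base over a finitely presented algebra flat over the base. -/

set_option autoImplicit false
set_option linter.style.haveILetI false

universe u

open TensorProduct

namespace Groth.Agent.FlatStage64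

section Step

variable (D A B₁ B : Type u) [CommRing D] [CommRing A] [CommRing B₁] [CommRing B]
  [Algebra D A] [Algebra D B₁] [Algebra A B] [Algebra B₁ B] [Algebra D B]
  [IsScalarTower D A B] [IsScalarTower D B₁ B] [Algebra.IsPushout D A B₁ B]

/-- Modules which come from a finite module over `B₁` flat over `D`. -/
def HasModel (N : Type u) [AddCommGroup N] [Module B N] : Prop :=
  ∃ (X : Type u) (_ : AddCommGroup X) (_ : Module B₁ X) (_ : Module D X) (_ : IsScalarTower D B₁ X),
    Module.Finite B₁ X ∧ Module.Flat D X ∧ Nonempty (N ≃ₗ[B] B ⊗[B₁] X)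

include A in
theorem lTensor_injective_pushout {X X' Y : Type u} [AddCommGroup X] [Module B₁ X] [Module D X]
    [IsScalarTower D B₁ X] [AddCommGroup X'] [Module B₁ X'] [Module D X'] [IsScalarTower D B₁ X']
    [AddCommGroup Y] [Module B₁ Y] [Module D Y] [IsScalarTower D B₁ Y] [Module.Flat D Y]
    (i : X' →ₗ[B₁] X) (g : X →ₗ[B₁] Y) (hi : Function.Injective i) (hg : Function.Surjective g)
    (h : Function.Exact i g) : Function.Injective (i.lTensor B) := by
  let e := Algebra.IsPushout.cancelBaseChange D A B₁ B X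
  let e' := Algebra.IsPushout.cancelBaseChange D A B₁ B X'
  have hnat : ∀ w, e.symm ((i.restrictScalars D).lTensor A w) = i.lTensor B (e'.symm w) := by
    intro w
    induction w using TensorProduct.induction_on with
    | zero => simp
    | add a b ha hb => simp only [map_add, ha, hb]
    | tmul a x => simp [e, e']
  have hinj := LinearMap.lTensor_injective_of_exact_of_flat (g.restrictScalars D) hg
    (i.restrictScalars D) hi h A
  intro x y hxy
  obtain ⟨v, rfl⟩ := e'.symm.surjective x
  obtain ⟨w, rfl⟩ := e'.symm.surjective y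
  rw [← hnat, ← hnat] at hxy
  rw [hinj (e.symm.injective hxy)]

variable [IsNoetherianRing B₁] [Module.Flat D B₁]

omit [Algebra D A] [Algebra A B] [Algebra D B] [IsScalarTower D A B] [IsScalarTower D B₁ B]
  [Algebra.IsPushout D A B₁ B] [Module.Flat D B₁] in
theorem HasModel.finitePresentation {N : Type u} [AddCommGroup N] [Module B N]
    (h : HasModel D B₁ B N) : Module.FinitePresentation B N := by
  obtain ⟨X, _, _, _, _, hfin, -, ⟨e⟩⟩ := h
  haveI := Module.finitePresentation_of_finite B₁ X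
  exact Module.FinitePresentation.of_equiv e.symm

include A in
/-- A module with a model is covered by a finite free module with kernel having a model. -/
theorem HasModel.step {N : Type u} [AddCommGroup N] [Module B N] (h : HasModel D B₁ B N) :
    ∃ (n : ℕ) (g : (Fin n → B) →ₗ[B] N), Function.Surjective g ∧ HasModel D B₁ B (LinearMap.ker g) := by
  obtain ⟨X, _, _, _, _, hfin, hflat, ⟨e⟩⟩ := h
  obtain ⟨n, g₁, hg₁⟩ := Module.Finite.exists_fin' B₁ X
  classical
  haveI : Module.Flat D (Fin n → B₁) := Module.Flat.of_linearEquiv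
    ((Finsupp.linearEquivFunOnFinite D B₁ (Fin n)).symm ≪≫ₗ finsuppLequivDFinsupp D)
  haveI : Module.Flat D (LinearMap.ker g₁) := WE24.flat_ker (g₁.restrictScalars D) hg₁
  haveI : Module.Finite B₁ (LinearMap.ker g₁) := inferInstance
  let i := (LinearMap.ker g₁).subtype
  have hex : Function.Exact i g₁ := LinearMap.exact_subtype_ker_map g₁
  let σ : (Fin n → B) ≃ₗ[B] B ⊗[B₁] (Fin n → B₁) := (TensorProduct.piScalarRight B₁ B B (Fin n)).symm
  let g : (Fin n → B) →ₗ[B] N := (e.symm.toLinearMap ∘ₗ g₁.baseChange B) ∘ₗ σ.toLinearMap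
  let j : B ⊗[B₁] LinearMap.ker g₁ →ₗ[B] (Fin n → B) := σ.symm.toLinearMap ∘ₗ i.baseChange B
  have hj : Function.Injective j :=
    σ.symm.injective.comp (lTensor_injective_pushout D A B₁ B i g₁ Subtype.val_injective hg₁ hex)
  have hg : Function.Surjective g :=
    (e.symm.surjective.comp (LinearMap.lTensor_surjective B hg₁)).comp σ.surjective
  have hjg : LinearMap.range j = LinearMap.ker g := by
    ext v
    rw [LinearMap.mem_ker, LinearMap.mem_range]
    constructor
    · rintro ⟨w, rfl⟩
      show e.symm (g₁.baseChange B (σ (σ.symm (i.baseChange B w)))) = 0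
      rw [LinearEquiv.apply_symm_apply, LinearEquiv.map_eq_zero_iff]
      exact ((lTensor_exact B hex hg₁) (i.baseChange B w)).mpr ⟨w, rfl⟩
    · intro hv
      have hv' : e.symm (g₁.baseChange B (σ v)) = 0 := hv
      rw [LinearEquiv.map_eq_zero_iff] at hv'
      obtain ⟨w, hw⟩ := ((lTensor_exact B hex hg₁) (σ v)).mp hv'
      exact ⟨w, by show σ.symm (i.baseChange B w) = v; rw [LinearEquiv.symm_apply_eq]; exact hw⟩
  exact ⟨n, g, hg, _, inferInstance, inferInstance, inferInstance, inferInstance, inferInstance, inferInstance,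
    ⟨(LinearEquiv.ofEq _ _ hjg.symm).trans (LinearEquiv.ofInjective j hj).symm⟩⟩

end Step

/-- A finitely presented module is the base change of a module over a model of the ring. -/
theorem exists_module_model {B₀ B M : Type u} [CommRing B₀] [CommRing B] [Algebra B₀ B] [AddCommGroup M]
    [Module B M] {n m : ℕ} (π : (Fin n → B) →ₗ[B] M) (hπ : Function.Surjective π)
    (v : Fin m → (Fin n → B)) (hv : LinearMap.ker π = Submodule.span B (Set.range v))
    (v₀ : Fin m → (Fin n → B₀)) (hv₀ : ∀ k i, algebraMap B₀ B (v₀ k i) = v k i) :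
    Nonempty (M ≃ₗ[B] B ⊗[B₀] ((Fin n → B₀) ⧸ Submodule.span B₀ (Set.range v₀))) := by
  classical
  let K := Submodule.span B₀ (Set.range v₀)
  let σ : (Fin n → B) ≃ₗ[B] B ⊗[B₀] (Fin n → B₀) := (TensorProduct.piScalarRight B₀ B B (Fin n)).symm
  let ψ : (Fin n → B) →ₗ[B] B ⊗[B₀] ((Fin n → B₀) ⧸ K) := K.mkQ.baseChange B ∘ₗ σ.toLinearMap
  have hψ : Function.Surjective ψ :=
    (LinearMap.lTensor_surjective B K.mkQ_surjective).comp σ.surjective
  have hσv : ∀ k, σ (v k) = 1 ⊗ₜ v₀ k := fun k => by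
    rw [LinearEquiv.symm_apply_eq]
    ext i
    simp [hv₀, Algebra.smul_def]
  have hker : LinearMap.ker ψ = LinearMap.ker π := by
    rw [hv]
    refine le_antisymm (fun z hz => ?_) ?_
    · have hz' : K.mkQ.lTensor B (σ z) = 0 := hz
      obtain ⟨w, hw⟩ := ((lTensor_exact B (LinearMap.exact_subtype_mkQ K) K.mkQ_surjective) (σ z)).mp hz'
      have : ∀ w : B ⊗[B₀] K, σ.symm (K.subtype.lTensor B w) ∈ Submodule.span B (Set.range v) := by
        intro w
        induction w using TensorProduct.induction_on with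
        | zero => simp
        | add a b ha hb => rw [map_add, map_add]; exact add_mem ha hb
        | tmul b x =>
          obtain ⟨x, hx⟩ := x
          have h1 : b ⊗ₜ[B₀] x = b • ((1 : B) ⊗ₜ[B₀] x) := by rw [TensorProduct.smul_tmul', smul_eq_mul, mul_one]
          rw [LinearMap.lTensor_tmul, Submodule.subtype_apply, h1, map_smul]
          refine Submodule.smul_mem _ b ?_
          clear h1
          induction hx using Submodule.span_induction with
          | zero => simp
          | add a c _ _ ha hc => rw [TensorProduct.tmul_add, map_add]; exact add_mem ha hc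
          | smul r a _ ha =>
            rw [TensorProduct.tmul_smul, ← algebraMap_smul B r, map_smul]
            exact Submodule.smul_mem _ _ ha
          | mem a ha =>
            obtain ⟨k, rfl⟩ := ha
            rw [← hσv, LinearEquiv.symm_apply_apply]
            exact Submodule.subset_span ⟨k, rfl⟩
      have := this w
      rwa [hw, LinearEquiv.symm_apply_apply] at this
    · rw [Submodule.span_le]
      rintro _ ⟨k, rfl⟩
      show K.mkQ.baseChange B (σ (v k)) = 0
      rw [hσv, LinearMap.baseChange_tmul, show K.mkQ (v₀ k) = 0 from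
        (Submodule.Quotient.mk_eq_zero K).mpr (Submodule.subset_span ⟨k, rfl⟩), TensorProduct.tmul_zero]
  exact ⟨(π.quotKerEquivOfSurjective hπ).symm ≪≫ₗ Submodule.quotEquivOfEq _ _ hker.symm ≪≫ₗ
    ψ.quotKerEquivOfSurjective hψ⟩

/-- The model over a stage. -/
theorem flat_model_of_stage {A₀ A B M : Type u} [CommRing A₀] [CommRing A] [CommRing B] [Algebra A₀ A]
    [Algebra A B] [Algebra A₀ B] [IsScalarTower A₀ A B] [AddCommGroup M] [Module B M]
    (D : Type u) [CommRing D] [Algebra A₀ D] [Algebra D A] [IsScalarTower A₀ D A] [IsNoetherianRing D]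
    [Algebra D B] [IsScalarTower D A B] [IsScalarTower A₀ D B]
    (B₀ : Type u) [CommRing B₀] [Algebra A₀ B₀] [Algebra.FiniteType A₀ B₀] [Algebra B₀ B] [IsScalarTower A₀ B₀ B]
    (hp₀ : Algebra.IsPushout A₀ A B₀ B) (M₀ : Type u) [AddCommGroup M₀] [Module B₀ M₀] [Module A₀ M₀]
    [IsScalarTower A₀ B₀ M₀] [Module.Finite B₀ M₀]
    [Module.Flat D (D ⊗[A₀] B₀)] [Module.Flat D (D ⊗[A₀] M₀)] (eM : M ≃ₗ[B] B ⊗[B₀] M₀) :
    ∃ (B₁ : Type u) (_ : CommRing D) (_ : CommRing B₁) (_ : Algebra D A) (_ : Algebra D B₁)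
      (_ : Algebra B₁ B) (_ : Algebra D B) (_ : IsScalarTower D A B) (_ : IsScalarTower D B₁ B),
      IsNoetherianRing B₁ ∧ Module.Flat D B₁ ∧ Algebra.IsPushout D A B₁ B ∧ HasModel D B₁ B M := by
  haveI : IsNoetherianRing (D ⊗[A₀] B₀) := Algebra.FiniteType.isNoetherianRing D (D ⊗[A₀] B₀)
  letI : Algebra B₀ (D ⊗[A₀] B₀) := Algebra.TensorProduct.rightAlgebra
  haveI : IsScalarTower A₀ B₀ (D ⊗[A₀] B₀) := Algebra.TensorProduct.right_isScalarTower
  haveI : Algebra.IsPushout A₀ D B₀ (D ⊗[A₀] B₀) := TensorProduct.isPushout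
  let φ : D ⊗[A₀] B₀ →ₐ[D] B := Algebra.TensorProduct.lift (Algebra.ofId D B)
    (IsScalarTower.toAlgHom A₀ B₀ B) fun _ _ => mul_comm _ _
  letI : Algebra (D ⊗[A₀] B₀) B := φ.toRingHom.toAlgebra
  haveI : IsScalarTower D (D ⊗[A₀] B₀) B := IsScalarTower.of_algebraMap_eq fun a => (φ.commutes a).symm
  haveI : IsScalarTower B₀ (D ⊗[A₀] B₀) B := IsScalarTower.of_algebraMap_eq fun b => by
    show algebraMap B₀ B b = φ (1 ⊗ₜ b)
    exact ((Algebra.TensorProduct.lift_tmul _ _ _ _ _).trans (by rw [map_one, one_mul]; rfl)).symm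
  haveI : IsScalarTower A₀ (D ⊗[A₀] B₀) B := IsScalarTower.of_algebraMap_eq fun a => by
    show algebraMap A₀ B a = φ (algebraMap A₀ (D ⊗[A₀] B₀) a)
    exact (IsScalarTower.algebraMap_apply A₀ D B a).trans (φ.commutes (algebraMap A₀ D a)).symm
  have hp : Algebra.IsPushout D A (D ⊗[A₀] B₀) B :=
    (Algebra.IsPushout.comp_iff (R := A₀) (S := D) (R' := B₀) (S' := D ⊗[A₀] B₀) (T := A) (T' := B)).mp hp₀
  refine ⟨D ⊗[A₀] B₀, inferInstance, inferInstance, inferInstance, inferInstance, inferInstance, inferInstance,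
    inferInstance, inferInstance, inferInstance, inferInstance, hp, (D ⊗[A₀] B₀) ⊗[B₀] M₀, inferInstance,
    inferInstance, inferInstance, inferInstance, inferInstance, ?_,
    ⟨eM ≪≫ₗ (TensorProduct.AlgebraTensorModule.cancelBaseChange B₀ (D ⊗[A₀] B₀) B B M₀).symm⟩⟩
  exact Module.Flat.of_linearEquiv (Algebra.IsPushout.cancelBaseChange A₀ D B₀ (D ⊗[A₀] B₀) M₀)

/-- A finitely presented algebra and module, both flat over the base, have a Noetherian flat model. -/
theorem exists_flat_model (A B M : Type u) [CommRing A] [CommRing B] [Algebra A B]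
    [Algebra.FinitePresentation A B] [Module.Flat A B] [AddCommGroup M] [Module B M] [Module A M]
    [IsScalarTower A B M] [Module.FinitePresentation B M] [Module.Flat A M] :
    ∃ (D B₁ : Type u) (_ : CommRing D) (_ : CommRing B₁) (_ : Algebra D A) (_ : Algebra D B₁)
      (_ : Algebra B₁ B) (_ : Algebra D B) (_ : IsScalarTower D A B) (_ : IsScalarTower D B₁ B),
      IsNoetherianRing B₁ ∧ Module.Flat D B₁ ∧ Algebra.IsPushout D A B₁ B ∧ HasModel D B₁ B M := by
  classical
  obtain ⟨n, K, ε, hK⟩ := Module.FinitePresentation.exists_fin B M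
  obtain ⟨m, v, hv⟩ := Submodule.fg_iff_exists_fin_generating_family.mp hK
  obtain ⟨A₀, B₀, _, _, e, hnoeth, hfp, hsub⟩ :=
    Cons62.exists_model (A := A) (B := B) (Set.finite_range fun p : Fin m × Fin n => v p.1 p.2)
  choose v₀ hv₀ using fun k i => hsub ⟨(k, i), rfl⟩
  letI : Algebra B₀ B :=
    ((e.toAlgHom.restrictScalars A₀).comp Algebra.TensorProduct.includeRight).toRingHom.toAlgebra
  haveI : IsScalarTower A₀ B₀ B := IsScalarTower.of_algebraMap_eq fun a =>
    (((e.toAlgHom.restrictScalars A₀).comp Algebra.TensorProduct.includeRight).commutes a).symm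
  have hp₀ : Algebra.IsPushout A₀ A B₀ B := by
    letI : Algebra B₀ (A ⊗[A₀] B₀) := Algebra.TensorProduct.rightAlgebra
    haveI : IsScalarTower A₀ B₀ (A ⊗[A₀] B₀) := Algebra.TensorProduct.right_isScalarTower
    haveI : Algebra.IsPushout A₀ A B₀ (A ⊗[A₀] B₀) := TensorProduct.isPushout
    exact Algebra.IsPushout.of_equiv (R := A₀) (R' := A) (S := B₀) (S' := A ⊗[A₀] B₀) e (RingHom.ext fun _ => rfl)
  let M₀ := (Fin n → B₀) ⧸ Submodule.span B₀ (Set.range v₀)
  obtain ⟨eM⟩ := exists_module_model (B₀ := B₀) (ε.symm.toLinearMap ∘ₗ K.mkQ)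
    (ε.symm.surjective.comp K.mkQ_surjective) v
    (by rw [LinearEquiv.ker_comp, Submodule.ker_mkQ, hv]) v₀ hv₀
  haveI : Module.Flat A (A ⊗[A₀] B₀) := Module.Flat.of_linearEquiv e.toLinearEquiv
  haveI : Module.Flat A (A ⊗[A₀] M₀) :=
    Module.Flat.of_linearEquiv ((eM.restrictScalars A).trans (Algebra.IsPushout.cancelBaseChange A₀ A B₀ B M₀)).symm
  haveI : Algebra.FiniteType A₀ B₀ := inferInstance
  obtain ⟨C₁, hC₁, hflat₁⟩ := exists_fg_flat (R := A₀) B₀ (M := B₀) A inferInstance
  obtain ⟨C₂, hC₂, hflat₂⟩ := exists_fg_flat (R := A₀) B₀ (M := M₀) A inferInstance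
  let D : Subalgebra A₀ A := C₁ ⊔ C₂
  haveI : Algebra.FiniteType A₀ D := (Subalgebra.fg_iff_finiteType D).mp (hC₁.sup hC₂)
  haveI : IsNoetherianRing D := Algebra.FiniteType.isNoetherianRing A₀ D
  haveI : Module.Flat D (D ⊗[A₀] B₀) := hflat₁ D le_sup_left
  haveI : Module.Flat D (D ⊗[A₀] M₀) := hflat₂ D le_sup_right
  exact ⟨D, flat_model_of_stage (A₀ := A₀) D B₀ hp₀ M₀ eM⟩

end Groth.Agent.FlatStage64
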