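import Groth.Agent.Helper62.FlatNilCrit
import Mathlib.RingTheory.Filtration
import Mathlib.RingTheory.Noetherian.Basic

/-! The local criterion of flatness, global form. The proof of `injective_of_smul_top_le` is that of
`FlatNilCrit62.flat_of_nilpotent_injective` (helper62), with weaker hypotheses. -/

set_option autoImplicit false

universe u

open TensorProduct

namespace Groth.Agent.FlatStage64

variable {A : Type u} [CommRing A] (J : Ideal A) (M : Type u) [AddCommGroup M] [Module A M]

/-- Tensoring with `M` preserves injections of modules killed by `J`. -/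
def KillExact : Prop :=
  ∀ (N N' : Type u) [AddCommGroup N] [Module A N] [AddCommGroup N'] [Module A N'],
    Module.IsTorsionBySet A N J → Module.IsTorsionBySet A N' J →
    ∀ g : N →ₗ[A] N', Function.Injective g → Function.Injective (g.rTensor M)

variable {J M}

theorem injective_of_smul_top_le (hkill : KillExact J M)
    (hinj : Function.Injective (J.subtype.rTensor M)) :
    ∀ (L : Type u) [AddCommGroup L] [Module A L] (L' : Submodule A L),
      J • (⊤ : Submodule A L) ≤ L' → Function.Injective (L'.subtype.rTensor M) := by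
  -- submodules of free modules containing `J F`
  have hfree : ∀ (F : Type u) [AddCommGroup F] [Module A F] [Module.Flat A F] (R : Submodule A F),
      J • (⊤ : Submodule A F) ≤ R → Function.Injective (R.subtype.rTensor M) := by
    intro F _ _ _ R hR
    rw [← LinearMap.ker_eq_bot, eq_bot_iff]
    intro x hx
    rw [LinearMap.mem_ker] at hx
    rw [Submodule.mem_bot]
    let S : Submodule A R := (J • (⊤ : Submodule A F)).comap R.subtype
    let g : (R ⧸ S) →ₗ[A] F ⧸ (J • (⊤ : Submodule A F)) := Submodule.mapQ _ _ R.subtype le_rfl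
    have hgi : Function.Injective g := by
      rw [← LinearMap.ker_eq_bot, eq_bot_iff]
      intro q hq
      obtain ⟨r, rfl⟩ := S.mkQ_surjective q
      rw [LinearMap.mem_ker, Submodule.mkQ_apply, Submodule.mapQ_apply, Submodule.Quotient.mk_eq_zero] at hq
      rw [Submodule.mem_bot, Submodule.mkQ_apply, Submodule.Quotient.mk_eq_zero]
      exact hq
    have hk1 : Module.IsTorsionBySet A (F ⧸ (J • (⊤ : Submodule A F))) J :=
      (Module.isTorsionBySet_quotient_iff _ _).mpr fun z a ha => Submodule.smul_mem_smul ha Submodule.mem_top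
    have hk2 : Module.IsTorsionBySet A (R ⧸ S) J :=
      (Module.isTorsionBySet_quotient_iff _ _).mpr fun z a ha =>
        (Submodule.smul_mem_smul ha (Submodule.mem_top (x := (z : F))) : a • (z : F) ∈ J • (⊤ : Submodule A F))
    have h1 : S.mkQ.rTensor M x = 0 := by
      apply hkill _ _ hk2 hk1 g hgi
      rw [map_zero, ← LinearMap.rTensor_comp_apply,
        show g ∘ₗ S.mkQ = (J • (⊤ : Submodule A F)).mkQ ∘ₗ R.subtype from rfl,
        LinearMap.rTensor_comp_apply, hx, map_zero]
    obtain ⟨y, rfl⟩ := ((rTensor_exact M (LinearMap.exact_subtype_mkQ S) S.mkQ_surjective) x).mp h1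
    let μ0 : ↥J ⊗[A] F →ₗ[A] F := (TensorProduct.lid A F).toLinearMap ∘ₗ J.subtype.rTensor F
    have hμmem : ∀ w, μ0 w ∈ J • (⊤ : Submodule A F) := by
      intro w
      induction w using TensorProduct.induction_on with
      | zero => simp
      | add a b ha hb => rw [map_add]; exact add_mem ha hb
      | tmul j f => simpa [μ0] using Submodule.smul_mem_smul j.2 (Submodule.mem_top (x := f))
    let μ : ↥J ⊗[A] F →ₗ[A] S :=
      LinearMap.codRestrict S (LinearMap.codRestrict R μ0 fun w => hR (hμmem w)) fun w => hμmem w
    have hμs : Function.Surjective μ := by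
      rintro ⟨⟨f, hfR⟩, hf⟩
      have hf' : f ∈ J • (⊤ : Submodule A F) := hf
      have : f ∈ LinearMap.range μ0 := by
        refine Submodule.smul_le.mpr ?_ hf'
        intro j hj z _
        exact ⟨(⟨j, hj⟩ : ↥J) ⊗ₜ z, by simp [μ0]⟩
      obtain ⟨w, hw⟩ := this
      exact ⟨w, Subtype.ext (Subtype.ext hw)⟩
    obtain ⟨z, rfl⟩ := LinearMap.rTensor_surjective M hμs y
    have h2 : μ0.rTensor M z = 0 := by
      rw [← hx, ← LinearMap.rTensor_comp_apply, ← LinearMap.rTensor_comp_apply]
      rfl
    have h3 : Function.Injective (μ0.rTensor M) := by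
      have hinj' : Function.Injective ((J.subtype.rTensor M).rTensor F) :=
        Module.Flat.rTensor_preserves_injective_linearMap _ hinj
      have e : ∀ t, μ0.rTensor M t = ((TensorProduct.lid A F).toLinearMap.rTensor M)
          ((TensorProduct.rightComm A A M F).toLinearMap
            ((J.subtype.rTensor M).rTensor F ((TensorProduct.rightComm A ↥J F M).toLinearMap t))) := by
        intro t
        induction t using TensorProduct.induction_on with
        | zero => simp
        | add a b ha hb => simp only [map_add, ha, hb]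
        | tmul w m =>
          induction w using TensorProduct.induction_on with
          | zero => simp
          | add a b ha hb => simp only [add_tmul, map_add, ha, hb]
          | tmul j f => simp [μ0]
      intro a b hab
      rw [e, e] at hab
      have hl : Function.Injective ((TensorProduct.lid A F).toLinearMap.rTensor M) :=
        ((TensorProduct.lid A F).rTensor M).injective
      exact (TensorProduct.rightComm A ↥J F M).injective (hinj' ((TensorProduct.rightComm A A M F).injective (hl hab)))
    have : z = 0 := h3 (by rw [h2, map_zero])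
    simp [this]
  -- submodules with quotient killed by J
  have hstep : ∀ (L : Type u) [AddCommGroup L] [Module A L] (L' : Submodule A L),
      J • (⊤ : Submodule A L) ≤ L' → Function.Injective (L'.subtype.rTensor M) := by
    intro L _ _ L' hL
    let π : (L →₀ A) →ₗ[A] L := Finsupp.linearCombination A id
    have hπ : Function.Surjective π := Finsupp.linearCombination_id_surjective A L
    let R : Submodule A (L →₀ A) := L'.comap π
    have hR : J • (⊤ : Submodule A (L →₀ A)) ≤ R := by
      rw [← Submodule.map_le_iff_le_comap, Submodule.map_smul'', Submodule.map_top,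
        LinearMap.range_eq_top.mpr hπ]
      exact hL
    rw [← LinearMap.ker_eq_bot, eq_bot_iff]
    intro y hy
    rw [LinearMap.mem_ker] at hy
    let π' : R →ₗ[A] L' := π.restrict fun _ h => h
    have hπ' : Function.Surjective π' := by
      rintro ⟨l, hl⟩
      obtain ⟨f, rfl⟩ := hπ l
      exact ⟨⟨f, hl⟩, rfl⟩
    obtain ⟨r, rfl⟩ := LinearMap.rTensor_surjective M hπ' y
    have h1 : π.rTensor M (R.subtype.rTensor M r) = 0 := by
      rw [← hy, ← LinearMap.rTensor_comp_apply, ← LinearMap.rTensor_comp_apply]
      rfl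
    obtain ⟨s, hs⟩ := ((rTensor_exact (R := A) (M := ↥(LinearMap.ker π)) (N := L →₀ A) (P := L) (f := (LinearMap.ker π).subtype) (g := π) M
      (LinearMap.exact_subtype_ker_map π) hπ) _).mp h1
    let k : LinearMap.ker π →ₗ[A] R := Submodule.inclusion fun f hf => by
      show π f ∈ L'
      rw [LinearMap.mem_ker.mp hf]; exact zero_mem _
    have h2 : r = k.rTensor M s := hfree (L →₀ A) R hR (by
      rw [← hs, ← LinearMap.rTensor_comp_apply]; rfl)
    have h3 : π' ∘ₗ k = 0 := LinearMap.ext fun f => Subtype.ext (LinearMap.mem_ker.mp f.2)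
    rw [Submodule.mem_bot, h2, ← LinearMap.rTensor_comp_apply, h3, LinearMap.rTensor_zero, LinearMap.zero_apply]
  exact hstep

theorem injective_sup_pow (hkill : KillExact J M) (hinj : Function.Injective (J.subtype.rTensor M))
    (I : Ideal A) (n : ℕ) : Function.Injective ((I ⊔ J ^ n : Ideal A).subtype.rTensor M) := by
  induction n with
  | zero => exact injective_of_smul_top_le hkill hinj A (I ⊔ J ^ 0) (by simp)
  | succ k ih =>
    let L : Ideal A := I ⊔ J ^ k
    let L' : Ideal A := I ⊔ J ^ (k + 1)
    have hle : L' ≤ L := sup_le_sup_left (Ideal.pow_le_pow_right (Nat.le_succ k)) I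
    have hJL : J • (⊤ : Submodule A L) ≤ Submodule.comap L.subtype L' := by
      rw [← Submodule.map_le_iff_le_comap, Submodule.map_smul'', Submodule.map_subtype_top, smul_eq_mul]
      show J * (I ⊔ J ^ k) ≤ I ⊔ J ^ (k + 1)
      rw [Ideal.mul_sup, ← pow_succ']
      exact sup_le_sup_right Ideal.mul_le_right _
    have h1 := injective_of_smul_top_le hkill hinj L (Submodule.comap L.subtype L') hJL
    let e : ↥L' ≃ₗ[A] ↥(Submodule.comap L.subtype L') := (Submodule.comapSubtypeEquivOfLe hle).symm
    have h2 : L'.subtype = L.subtype ∘ₗ ((Submodule.comap L.subtype L').subtype ∘ₗ e.toLinearMap) := by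
      ext z; rfl
    show Function.Injective (L'.subtype.rTensor M)
    rw [h2, LinearMap.rTensor_comp, LinearMap.rTensor_comp, LinearMap.coe_comp, LinearMap.coe_comp]
    exact ih.comp (h1.comp (e.rTensor M).injective)

/-- Local criterion: `M` finite over a Noetherian `B` with `J B` in the radical. -/
theorem flat_of_killExact {B : Type u} [CommRing B] [Algebra A B] [IsNoetherianRing A] [IsNoetherianRing B]
    [Module B M] [IsScalarTower A B M] [Module.Finite B M] (hkill : KillExact J M)
    (hinj : Function.Injective (J.subtype.rTensor M)) (hJ : J.map (algebraMap A B) ≤ Ideal.jacobson ⊥) :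
    Module.Flat A M := by
  rw [Module.Flat.iff_rTensor_injective']
  intro I
  rw [injective_iff_map_eq_zero]
  intro x hx
  -- work in `M ⊗ I`, a finite `B`-module
  let σ : ↥I ⊗[A] M ≃ₗ[A] M ⊗[A] ↥I := TensorProduct.comm A ↥I M
  have : Module.Finite B (M ⊗[A] ↥I) := by
    classical
    obtain ⟨s, hs⟩ := (Module.Finite.fg_top : (⊤ : Submodule B M).FG)
    obtain ⟨t, ht⟩ := (IsNoetherian.noetherian (⊤ : Submodule A I))
    refine ⟨⟨(s ×ˢ t).image fun x => x.1 ⊗ₜ[A] x.2, Submodule.eq_top_iff'.mpr fun z => ?_⟩⟩
    induction z using TensorProduct.induction_on with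
    | zero => simp
    | add a b ha hb => exact add_mem ha hb
    | tmul n p =>
      have hp : p ∈ Submodule.span A (t : Set I) := ht.symm ▸ trivial
      induction hp using Submodule.span_induction with
      | zero => simp
      | add a b _ _ ha hb => rw [TensorProduct.tmul_add]; exact add_mem ha hb
      | smul a b _ hb =>
        rw [TensorProduct.tmul_smul, ← algebraMap_smul B a (n ⊗ₜ[A] b)]
        exact Submodule.smul_mem _ _ hb
      | mem b hb =>
        have hn : n ∈ Submodule.span B (s : Set M) := hs.symm ▸ trivial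
        induction hn using Submodule.span_induction with
        | zero => simp
        | add c d _ _ hc hd => rw [TensorProduct.add_tmul]; exact add_mem hc hd
        | smul c d _ hd => rw [← TensorProduct.smul_tmul']; exact Submodule.smul_mem _ _ hd
        | mem c hc =>
          apply Submodule.subset_span
          simp only [Finset.coe_image, Set.mem_image, Finset.mem_coe, Finset.mem_product]
          exact ⟨(c, b), ⟨hc, hb⟩, rfl⟩
  obtain ⟨k, hk⟩ := Ideal.exists_pow_inf_eq_pow_smul (M := A) J I
  have hAR : ∀ n, J ^ (n + k) ⊓ I ≤ J ^ n * I := by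
    intro n
    have := hk (n + k) (Nat.le_add_left k n)
    simp only [smul_eq_mul, Ideal.mul_top, Nat.add_sub_cancel] at this
    rw [this]
    exact Ideal.mul_mono le_rfl inf_le_right
  have hmem : ∀ n, σ x ∈ (J.map (algebraMap A B)) ^ n • (⊤ : Submodule B (M ⊗[A] ↥I)) := by
    intro n
    set L : Ideal A := I ⊔ J ^ (n + k)
    let i : ↥I →ₗ[A] ↥L := Submodule.inclusion le_sup_left
    have hx' : i.rTensor M x = 0 := by
      apply injective_sup_pow hkill hinj I (n + k)
      rw [map_zero, ← LinearMap.rTensor_comp_apply]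
      exact hx
    let T : Submodule A ↥I := Submodule.comap I.subtype (J ^ (n + k))
    let g : (↥I ⧸ T) →ₗ[A] ↥L ⧸ Submodule.comap L.subtype (J ^ (n + k)) :=
      Submodule.mapQ _ _ i le_rfl
    have hgs : Function.Surjective g := by
      intro y
      obtain ⟨⟨y, hy⟩, rfl⟩ := Submodule.Quotient.mk_surjective _ y
      obtain ⟨a, ha, b, hb, rfl⟩ := Submodule.mem_sup.mp hy
      refine ⟨Submodule.Quotient.mk ⟨a, ha⟩, ?_⟩
      refine (Submodule.Quotient.eq _).mpr ?_
      show a - (a + b) ∈ J ^ (n + k)
      simpa using hb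
    have hgi : Function.Injective g := by
      rw [← LinearMap.ker_eq_bot, eq_bot_iff]
      intro q hq
      obtain ⟨r, rfl⟩ := T.mkQ_surjective q
      rw [Submodule.mem_bot, Submodule.mkQ_apply, Submodule.Quotient.mk_eq_zero]
      exact (Submodule.Quotient.mk_eq_zero (Submodule.comap L.subtype (J ^ (n + k)))).mp hq
    have h0 : T.mkQ.rTensor M x = 0 := by
      apply ((LinearEquiv.ofBijective g ⟨hgi, hgs⟩).rTensor M).injective
      rw [map_zero]
      show g.rTensor M (T.mkQ.rTensor M x) = 0
      rw [← LinearMap.rTensor_comp_apply, show g ∘ₗ T.mkQ =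
          (Submodule.comap L.subtype (J ^ (n + k))).mkQ ∘ₗ i from rfl,
        LinearMap.rTensor_comp_apply, hx', map_zero]
    obtain ⟨y, rfl⟩ := ((rTensor_exact M (LinearMap.exact_subtype_mkQ T) T.mkQ_surjective) x).mp h0
    clear hx hx' h0
    induction y using TensorProduct.induction_on with
    | zero => simp
    | add a b ha hb => simp only [map_add]; exact add_mem ha hb
    | tmul t m =>
      have ht : ((t : ↥I) : A) ∈ J ^ n * I := hAR n ⟨t.2, (t : ↥I).2⟩
      show m ⊗ₜ[A] (t : ↥I) ∈ _
      have key : ∀ z ∈ J ^ n * I, ∀ (hz : z ∈ I), m ⊗ₜ[A] (⟨z, hz⟩ : ↥I) ∈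
          (J.map (algebraMap A B)) ^ n • (⊤ : Submodule B (M ⊗[A] ↥I)) := by
        intro z hz
        refine Submodule.mul_induction_on hz (fun a ha b hb => ?_) (fun a b ha hb => ?_)
          |> fun h => fun hz' => (h : z ∈ I ∧ ∀ (hz : z ∈ I), m ⊗ₜ[A] (⟨z, hz⟩ : ↥I) ∈
            (J.map (algebraMap A B)) ^ n • (⊤ : Submodule B (M ⊗[A] ↥I))).2 hz'
        · refine ⟨I.mul_mem_left a hb, fun hz => ?_⟩
          have : (⟨a * b, hz⟩ : ↥I) = a • ⟨b, hb⟩ := rfl
          rw [this, TensorProduct.tmul_smul, ← algebraMap_smul B a, ← Ideal.map_pow]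
          exact Submodule.smul_mem_smul (Ideal.mem_map_of_mem _ ha) trivial
        · refine ⟨I.add_mem ha.1 hb.1, fun hz => ?_⟩
          have : (⟨a + b, hz⟩ : ↥I) = ⟨a, ha.1⟩ + ⟨b, hb.1⟩ := rfl
          rw [this, TensorProduct.tmul_add]
          exact add_mem (ha.2 _) (hb.2 _)
      exact key _ ht (t : ↥I).2
  have hzero : σ x = 0 := by
    have := (Submodule.mem_iInf (fun n : ℕ => (J.map (algebraMap A B)) ^ n • (⊤ : Submodule B (M ⊗[A] ↥I)))).2 hmem
    rwa [Ideal.iInf_pow_smul_eq_bot_of_le_jacobson (M := M ⊗[A] ↥I) _ hJ, Submodule.mem_bot] at this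
  exact σ.injective (hzero.trans (map_zero σ).symm)

end Groth.Agent.FlatStage64
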