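import Groth.Agent.FlatStage64.Syzygy
import Groth.Agent.LCI19.TorDim
import Groth.Agent.TorMod7.Basic

/-! Projective dimension equals tor dimension for modules with flat models. -/

set_option autoImplicit false
set_option linter.style.haveILetI false

universe u

open CategoryTheory CategoryTheory.Limits TensorProduct

attribute [local instance] HasDerivedCategory.standard

namespace Groth.Agent.FlatStage64

open Groth.Agent.DR39

theorem hasProjectiveDimensionLT_of_model {D A B₁ B : Type u} [CommRing D] [CommRing A] [CommRing B₁] [CommRing B]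
    [Algebra D A] [Algebra D B₁] [Algebra A B] [Algebra B₁ B] [Algebra D B] [IsScalarTower D A B]
    [IsScalarTower D B₁ B] [Algebra.IsPushout D A B₁ B] [IsNoetherianRing B₁] [Module.Flat D B₁] (d : ℕ) :
    ∀ (N : Type u) [AddCommGroup N] [Module B N], HasModel D B₁ B N →
      TA (-(d : ℤ)) 0 (Dual.inD B N) → HasProjectiveDimensionLT (ModuleCat.of B N) (d + 1) := by
  induction d with
  | zero =>
    intro N _ _ hm h
    have := LCI19.flat_of_ta le_rfl (by simpa using h)
    have := hm.finitePresentation
    have := Module.Flat.projective_of_finitePresentation (R := B) (M := N)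
    exact projective_iff_hasProjectiveDimensionLT_one.1 ((IsProjective.iff_projective (R := B) N).1 this)
  | succ d ih =>
    intro N _ _ hm h
    obtain ⟨n, g, hg, hk⟩ := HasModel.step D A B₁ B hm
    have hk' := ih (LinearMap.ker g) hk (LCI19.ta_ker g hg d (by push_cast at h; exact h))
    let S : ShortComplex (ModuleCat.{u} B) :=
      ShortComplex.mk (ModuleCat.ofHom (LinearMap.ker g).subtype) (ModuleCat.ofHom g)
        (ModuleCat.hom_ext (LinearMap.ext fun x => x.2))
    have hS : S.ShortExact :=
      { exact := by rw [ShortComplex.moduleCat_exact_iff]; exact fun x hx => ⟨⟨x, hx⟩, rfl⟩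
        mono_f := (ModuleCat.mono_iff_injective _).2 Subtype.val_injective
        epi_g := (ModuleCat.epi_iff_surjective _).2 hg }
    have : Projective S.X₂ := (IsProjective.iff_projective (R := B) (Fin n → B)).1 inferInstance
    exact hS.hasProjectiveDimensionLT_X₃ (d + 1) hk' (hasProjectiveDimensionLT_of_ge _ 1 (d + 1 + 1) (by omega))

variable {B : Type u} [CommRing B]

theorem isZero_tor_of_subsingleton (M : Type u) [AddCommGroup M] [Module B M] [Subsingleton M] (i : ℕ)
    (N : ModuleCat.{u} B) : IsZero (((Tor (ModuleCat.{u} B) i).obj (ModuleCat.of B M)).obj N) := by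
  let P : ProjectiveResolution N := (HasProjectiveResolution.out (Z := N)).some
  refine IsZero.of_iso ?_ (P.isoLeftDerivedObj ((MonoidalCategory.tensoringLeft _).obj (ModuleCat.of B M)) i)
  erw [← HomologicalComplex.exactAt_iff_isZero_homology]
  refine ShortComplex.exact_of_isZero_X₂ _ (ModuleCat.isZero_iff_subsingleton.2 ?_)
  exact inferInstanceAs (Subsingleton (M ⊗[B] (P.complex.X i)))

theorem subsingleton_of_isZero_tor_zero (M : Type u) [AddCommGroup M] [Module B M]
    (h : IsZero (((Tor (ModuleCat.{u} B) 0).obj (ModuleCat.of B M)).obj (ModuleCat.of B B))) :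
    Subsingleton M := by
  let F := (MonoidalCategory.tensoringLeft (ModuleCat.{u} B)).obj (ModuleCat.of B M)
  have : PreservesFiniteColimits F := inferInstanceAs (PreservesFiniteColimits (MonoidalCategory.tensorLeft _))
  have h' : IsZero (F.obj (ModuleCat.of B B)) := h.of_iso (F.leftDerivedZeroIsoSelf.app _).symm
  have := ModuleCat.subsingleton_of_isZero h'
  haveI : Subsingleton (M ⊗[B] B) := this
  exact (TensorProduct.rid B M).symm.toEquiv.subsingleton

end Groth.Agent.FlatStage64
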